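import Cfsg.Agent.H875.M23.Trace
import Cfsg.Agent.MonsterX.ConcMono

/-!
# Traces of the words of orders 5, 60, 60, 40, 40, 20 (helper136)

Kernel checks (`H875.M23.Trace.trace_W`) for (M,23), S4929.
-/

set_option autoImplicit false
set_option maxRecDepth 100000
set_option Elab.async false

namespace Cfsg.Agent.H136.M23.BTr

open Cfsg.Agent.H875.M23.Trace Cfsg.Agent.MonsterX.Space Cfsg.Agent.MonsterX.Conc

/-- the word repeated `k` times -/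
noncomputable def pw (k : ℕ) (w : List ℕ) : List ℕ := Nat.rec (motive := fun _ => List ℕ) [] (fun _ ih => w ++ ih) k

theorem W_pw (k : ℕ) (w : List ℕ) : W (pw k w) = W w ^ k := by
  induction k with
  | zero => exact W_nil
  | succ k ih =>
    show W (w ++ pw k w) = _
    rw [W_append, ih, pow_succ]

def u : List ℕ := [37, 37]

theorem u_t1 : LinearMap.trace ℚ V (W (pw 1 u) : V →ₗ[ℚ] V) = ((134 : ℕ) : ℚ) - (0 : ℕ) :=
  trace_W (by norm_num) (by norm_num) (by decide +kernel)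

def wA : List ℕ := [36, 32, 36, 43]

theorem wA_t1 : LinearMap.trace ℚ V (W (pw 1 wA) : V →ₗ[ℚ] V) = ((2 : ℕ) : ℚ) - (2 : ℕ) :=
  trace_W (by norm_num) (by norm_num) (by decide +kernel)

theorem wA_t2 : LinearMap.trace ℚ V (W (pw 2 wA) : V →ₗ[ℚ] V) = ((4 : ℕ) : ℚ) - (4 : ℕ) :=
  trace_W (by norm_num) (by norm_num) (by decide +kernel)

theorem wA_t3 : LinearMap.trace ℚ V (W (pw 3 wA) : V →ₗ[ℚ] V) = ((29 : ℕ) : ℚ) - (23 : ℕ) :=
  trace_W (by norm_num) (by norm_num) (by decide +kernel)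

theorem wA_t4 : LinearMap.trace ℚ V (W (pw 4 wA) : V →ₗ[ℚ] V) = ((8 : ℕ) : ℚ) - (0 : ℕ) :=
  trace_W (by norm_num) (by norm_num) (by decide +kernel)

theorem wA_t6 : LinearMap.trace ℚ V (W (pw 6 wA) : V →ₗ[ℚ] V) = ((70 : ℕ) : ℚ) - (64 : ℕ) :=
  trace_W (by norm_num) (by norm_num) (by decide +kernel)

def wB : List ℕ := [42, 42, 37, 7, 32, 12]

theorem wB_t1 : LinearMap.trace ℚ V (W (pw 1 wB) : V →ₗ[ℚ] V) = ((2 : ℕ) : ℚ) - (0 : ℕ) :=
  trace_W (by norm_num) (by norm_num) (by decide +kernel)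

theorem wB_t2 : LinearMap.trace ℚ V (W (pw 2 wB) : V →ₗ[ℚ] V) = ((4 : ℕ) : ℚ) - (0 : ℕ) :=
  trace_W (by norm_num) (by norm_num) (by decide +kernel)

theorem wB_t3 : LinearMap.trace ℚ V (W (pw 3 wB) : V →ₗ[ℚ] V) = ((11 : ℕ) : ℚ) - (9 : ℕ) :=
  trace_W (by norm_num) (by norm_num) (by decide +kernel)

theorem wB_t4 : LinearMap.trace ℚ V (W (pw 4 wB) : V →ₗ[ℚ] V) = ((8 : ℕ) : ℚ) - (0 : ℕ) :=
  trace_W (by norm_num) (by norm_num) (by decide +kernel)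

theorem wB_t6 : LinearMap.trace ℚ V (W (pw 6 wB) : V →ₗ[ℚ] V) = ((46 : ℕ) : ℚ) - (24 : ℕ) :=
  trace_W (by norm_num) (by norm_num) (by decide +kernel)

def wC : List ℕ := [44, 12, 37, 26]

theorem wC_t1 : LinearMap.trace ℚ V (W (pw 1 wC) : V →ₗ[ℚ] V) = ((2 : ℕ) : ℚ) - (2 : ℕ) :=
  trace_W (by norm_num) (by norm_num) (by decide +kernel)

theorem wC_t2 : LinearMap.trace ℚ V (W (pw 2 wC) : V →ₗ[ℚ] V) = ((8 : ℕ) : ℚ) - (6 : ℕ) :=
  trace_W (by norm_num) (by norm_num) (by decide +kernel)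

theorem wC_t4 : LinearMap.trace ℚ V (W (pw 4 wC) : V →ₗ[ℚ] V) = ((78 : ℕ) : ℚ) - (56 : ℕ) :=
  trace_W (by norm_num) (by norm_num) (by decide +kernel)

def wD : List ℕ := [37, 44, 30]

theorem wD_t1 : LinearMap.trace ℚ V (W (pw 1 wD) : V →ₗ[ℚ] V) = ((3 : ℕ) : ℚ) - (1 : ℕ) :=
  trace_W (by norm_num) (by norm_num) (by decide +kernel)

theorem wD_t2 : LinearMap.trace ℚ V (W (pw 2 wD) : V →ₗ[ℚ] V) = ((26 : ℕ) : ℚ) - (20 : ℕ) :=
  trace_W (by norm_num) (by norm_num) (by decide +kernel)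

theorem wD_t4 : LinearMap.trace ℚ V (W (pw 4 wD) : V →ₗ[ℚ] V) = ((70 : ℕ) : ℚ) - (64 : ℕ) :=
  trace_W (by norm_num) (by norm_num) (by decide +kernel)

def wE : List ℕ := [25, 37, 44]

theorem wE_t1 : LinearMap.trace ℚ V (W (pw 1 wE) : V →ₗ[ℚ] V) = ((0 : ℕ) : ℚ) - (2 : ℕ) :=
  trace_W (by norm_num) (by norm_num) (by decide +kernel)

theorem wE_t2 : LinearMap.trace ℚ V (W (pw 2 wE) : V →ₗ[ℚ] V) = ((70 : ℕ) : ℚ) - (64 : ℕ) :=
  trace_W (by norm_num) (by norm_num) (by decide +kernel)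

def uz : List ℕ := [37, 37, 45]

theorem uz_t1 : LinearMap.trace ℚ V (W (pw 1 uz) : V →ₗ[ℚ] V) = ((70 : ℕ) : ℚ) - (64 : ℕ) :=
  trace_W (by norm_num) (by norm_num) (by decide +kernel)

end Cfsg.Agent.H136.M23.BTr
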